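import Cfsg.Agent.LocalLemmas.Basic
import Cfsg.Prelude.Def_IsolatedElements
import Mathlib.GroupTheory.Sylow
import Mathlib.GroupTheory.Nilpotent

/-!
Isolated elements of prime power order.
-/

set_option autoImplicit false

namespace CfsgLib.Isolated

open CfsgLib.LocalLemmas

variable {G : Type*} [Group G] [Finite G] {p : ℕ} [hp : Fact p.Prime] {x : G}

/-- An isolated element is central in every p-subgroup containing it. -/
theorem le_centralizer (hiso : Cfsg.IsIsolated x) {R : Subgroup G} (hR : IsPGroup p R) (hxR : x ∈ R) :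
    R ≤ Subgroup.centralizer ({x} : Set G) := by
  by_contra hne
  haveI := hR.isNilpotent
  set D := (Subgroup.centralizer ({x} : Set G)).subgroupOf R with hD
  have hlt : D < ⊤ := lt_top_iff_ne_top.2 fun h => hne (Subgroup.subgroupOf_eq_top.1 h)
  obtain ⟨n, hn, hnD⟩ := SetLike.exists_of_lt (Group.normalizerCondition_of_isNilpotent D hlt)
  apply hnD
  rw [hD, Subgroup.mem_subgroupOf, Subgroup.mem_centralizer_singleton_iff]
  have hxD : (⟨x, hxR⟩ : R) ∈ D :=
    Subgroup.mem_subgroupOf.mpr (Subgroup.mem_centralizer_singleton_iff.mpr rfl)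
  have h1 := Subgroup.mem_centralizer_singleton_iff.mp
    (Subgroup.mem_subgroupOf.mp ((Subgroup.mem_normalizer_iff.1 hn _).1 hxD))
  have h2 := hiso (n : G) h1.symm
  calc (n : G) * x = (n : G) * x * (n : G)⁻¹ * n := by simp [mul_assoc]
    _ = x * n := by rw [h2]

/-- A conjugate in the same p-subgroup is equal. -/
theorem eq_of_mem (hiso : Cfsg.IsIsolated x) {R : Subgroup G} (hR : IsPGroup p R) (hxR : x ∈ R) {g : G}
    (hg : g * x * g⁻¹ ∈ R) : g * x * g⁻¹ = x :=
  hiso g (Subgroup.mem_centralizer_singleton_iff.mp (le_centralizer hiso hR hxR hg)).symm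

theorem normalizer_le (hiso : Cfsg.IsIsolated x) {R : Subgroup G} (hR : IsPGroup p R) (hxR : x ∈ R) :
    Subgroup.normalizer (R : Set G) ≤ Subgroup.centralizer ({x} : Set G) := by
  intro n hn
  rw [Subgroup.mem_centralizer_singleton_iff]
  have h2 := eq_of_mem hiso hR hxR ((Subgroup.mem_normalizer_iff.1 hn x).1 hxR)
  calc n * x = n * x * n⁻¹ * n := by simp [mul_assoc]
    _ = x * n := by rw [h2]

/-- Fusion of `x` inside a subgroup is trivial. -/
theorem exists_mul_mem_centralizer (hiso : Cfsg.IsIsolated x) (hx : ∃ k : ℕ, orderOf x = p ^ k) {H : Subgroup G}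
    (hxH : x ∈ H) {g : G} (hg : g * x * g⁻¹ ∈ H) : ∃ h ∈ H, h * g ∈ Subgroup.centralizer ({x} : Set G) := by
  obtain ⟨k, hk⟩ := hx
  have hp1 : IsPGroup p (Subgroup.zpowers x) := IsPGroup.of_card (n := k) (by rw [Nat.card_zpowers, hk])
  have hp2 : IsPGroup p (Subgroup.zpowers (g * x * g⁻¹)) :=
    IsPGroup.of_card (n := k) (by rw [Nat.card_zpowers, ← MulAut.conj_apply, MulEquiv.orderOf_eq, hk])
  obtain ⟨h, hh, R, -, hR, hgR, hxR⟩ :=
    exists_conj_common (Subgroup.zpowers_le.mpr hg) (Subgroup.zpowers_le.mpr hxH) hp2 hp1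
  refine ⟨h, hh, Subgroup.mem_centralizer_singleton_iff.mpr ?_⟩
  have h1 : (h * g) * x * (h * g)⁻¹ ∈ R := by
    have := hgR (Subgroup.mem_map_of_mem _ (Subgroup.mem_zpowers (g * x * g⁻¹)))
    simpa [mul_assoc] using this
  have h2 := eq_of_mem hiso hR (hxR (Subgroup.mem_zpowers x)) h1
  calc h * g * x = h * g * x * (h * g)⁻¹ * (h * g) := by simp [mul_assoc]
    _ = x * (h * g) := by rw [h2]

/-- No power of `x` is fused to another element of a p-subgroup containing `x`. -/
theorem conj_eq_of_mem_zpowers (hiso : Cfsg.IsIsolated x) (hx : ∃ k : ℕ, orderOf x = p ^ k) {R : Subgroup G}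
    (hR : IsPGroup p R) (hxR : x ∈ R) {y : G} (hy : y ∈ Subgroup.zpowers x) {g : G} (hg : g * y * g⁻¹ ∈ R) :
    g * y * g⁻¹ = y := by
  obtain ⟨m, rfl⟩ := Subgroup.mem_zpowers_iff.mp hy
  set z := g * x ^ m * g⁻¹ with hz
  have hxz : x ∈ Subgroup.centralizer ({z} : Set G) := Subgroup.mem_centralizer_singleton_iff.mpr
    (Subgroup.mem_centralizer_singleton_iff.mp (le_centralizer hiso hR hxR hg)).symm
  have hgz : g * x * g⁻¹ ∈ Subgroup.centralizer ({z} : Set G) := Subgroup.mem_centralizer_singleton_iff.mpr (by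
    rw [hz, ← MulAut.conj_apply, ← MulAut.conj_apply, ← map_mul, ← map_mul, (Commute.self_zpow x m).eq])
  obtain ⟨h, hh, hhg⟩ := exists_mul_mem_centralizer hiso hx hxz hgz
  have h1 : Commute (h * g) (x ^ m) := (Commute.zpow_right (Subgroup.mem_centralizer_singleton_iff.mp hhg) m)
  have h2 : h * z * h⁻¹ = z := by
    rw [Subgroup.mem_centralizer_singleton_iff.mp hh, mul_inv_cancel_right]
  calc z = h * z * h⁻¹ := h2.symm
    _ = h * g * x ^ m * (h * g)⁻¹ := by rw [hz]; simp [mul_assoc]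
    _ = x ^ m := by rw [h1.eq, mul_inv_cancel_right]

end CfsgLib.Isolated
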