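import Cfsg.Agent.LocalLemmas.Basic
import Cfsg.Prelude.Def_SylowControl

/-!
Sylow members of a family, and Sylow intersections with a subgroup meeting its conjugates in p'-groups.
-/

set_option autoImplicit false

open scoped Pointwise

namespace CfsgLib.SylowGraph

open CfsgLib.LocalLemmas

variable {G : Type*} [Group G] {p : ℕ}

theorem coe_smul_sylow (g : G) (P : Sylow p G) :
    ((g • P : Sylow p G) : Subgroup G) = (P : Subgroup G).map (MulAut.conj g).toMonoidHom := rfl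

theorem mem_smul_iff {g x : G} {P : Sylow p G} : x ∈ (g • P : Sylow p G) ↔ g⁻¹ * x * g ∈ P :=
  mem_conjMap (H := (P : Subgroup G))

/-- `S ∩ X` is a Sylow subgroup of `X`, as a maximality statement in the ambient group. -/
theorem mem_sylowMembers_iff [Finite G] [Fact p.Prime] {𝓕 : Set (Subgroup G)} {S X : Subgroup G} :
    X ∈ Cfsg.sylowMembers p 𝓕 S ↔ X ∈ 𝓕 ∧ IsPGroup p ↥(S ⊓ X) ∧
      ∀ R : Subgroup G, IsPGroup p R → R ≤ X → S ⊓ X ≤ R → R ≤ S ⊓ X := by
  constructor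
  · rintro ⟨hX, P, hP⟩
    refine ⟨hX, hP ▸ P.isPGroup'.map _, fun R hR hRX hle => ?_⟩
    have h1 : (P : Subgroup X) ≤ R.subgroupOf X := fun a ha =>
      Subgroup.mem_subgroupOf.mpr (hle (hP ▸ Subgroup.mem_map_of_mem X.subtype ha))
    have h2 := P.3 (hR.comap_subtype (K := X)) h1
    intro r hr
    rw [← hP]
    exact ⟨⟨r, hRX hr⟩, h2.le (Subgroup.mem_subgroupOf.mpr hr), rfl⟩
  · rintro ⟨hX, hp, hmax⟩
    obtain ⟨P, hP⟩ := (hp.comap_subtype (K := X)).exists_le_sylow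
    refine ⟨hX, P, ?_⟩
    have h1 : S ⊓ X ≤ (P : Subgroup X).map X.subtype := fun a ha => ⟨⟨a, ha.2⟩, hP ha, rfl⟩
    exact le_antisymm (hmax _ (P.isPGroup'.map _) (Subgroup.map_subtype_le _) h1) h1

theorem sylowMembers_conj [Finite G] [Fact p.Prime] {𝓕 : Set (Subgroup G)} (h𝓕 : Cfsg.IsNormalSet 𝓕) (g : G)
    {S X : Subgroup G} (hX : X ∈ Cfsg.sylowMembers p 𝓕 S) :
    X.map (MulAut.conj g).toMonoidHom ∈ Cfsg.sylowMembers p 𝓕 (S.map (MulAut.conj g).toMonoidHom) := by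
  rw [mem_sylowMembers_iff] at hX ⊢
  obtain ⟨hX, hp, hmax⟩ := hX
  have hi := (MulAut.conj g).injective
  rw [← Subgroup.map_inf _ _ _ hi]
  refine ⟨?_, isPGroup_conjMap hp, fun R hR hRX hle => ?_⟩
  · have := h𝓕 X hX g⁻¹
    rwa [Cfsg.subgroupConjRight, inv_inv] at this
  · have h1 := hmax (R.map (MulAut.conj g⁻¹).toMonoidHom) (isPGroup_conjMap hR) ?_ ?_
    · intro r hr
      have h2 := h1 (Subgroup.mem_map_of_mem _ hr)
      exact mem_conjMap.mpr (by simpa using h2)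
    · rintro _ ⟨r, hr, rfl⟩
      have := mem_conjMap.mp (hRX hr)
      simpa using this
    · intro a ha
      exact mem_conjMap.mpr (by simpa using hle (Subgroup.mem_map_of_mem _ ha))

section StronglyEmbedded

variable [Finite G] [Fact p.Prime] {H : Subgroup G}
  (hse : ∀ g : G, g ∉ H → ¬ p ∣ Nat.card ↥(H ⊓ H.map (MulAut.conj g).toMonoidHom))
include hse

theorem normalizer_le {D : Subgroup G} (hD : IsPGroup p D) (hD1 : D ≠ ⊥) (hDH : D ≤ H) :
    Subgroup.normalizer (D : Set G) ≤ H := by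
  intro g hg
  by_contra hgH
  apply hse g hgH
  have h1 : D ≤ H ⊓ H.map (MulAut.conj g).toMonoidHom :=
    le_inf hDH ((conjMap_eq_of_mem_normalizer hg).ge.trans (conjMap_mono hDH))
  obtain ⟨k, hk0, hk⟩ := hD.nontrivial_iff_card.mp ((Subgroup.nontrivial_iff_ne_bot D).mpr hD1)
  exact (hk ▸ dvd_pow_self p (by omega)).trans (Subgroup.card_dvd_of_le h1)

/-- A p-group meeting `H` nontrivially lies in `H`. -/
theorem le_of_inf_ne_bot {R : Subgroup G} (hR : IsPGroup p R) (h : R ⊓ H ≠ ⊥) : R ≤ H := by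
  by_contra hne
  obtain ⟨y, hy, hyD, hyN⟩ := exists_mem_normalizer_not_mem hR
    (lt_of_le_of_ne (inf_le_left : R ⊓ H ≤ R) fun e => hne (e ▸ inf_le_right))
  exact hyD ⟨hy, normalizer_le hse (hR.to_le inf_le_left) h inf_le_right hyN⟩

theorem exists_sylow_le (hpH : p ∣ Nat.card H) : ∃ P : Sylow p G, (P : Subgroup G) ≤ H ∧ (P : Subgroup G) ≠ ⊥ := by
  obtain ⟨x, hx⟩ := exists_prime_orderOf_dvd_card' p hpH
  have hxp : IsPGroup p (Subgroup.zpowers (x : G)) :=
    IsPGroup.of_card (n := 1) (by rw [Nat.card_zpowers, Subgroup.orderOf_coe, hx, pow_one])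
  obtain ⟨P, hP⟩ := hxp.exists_le_sylow
  have hx1 : (x : G) ≠ 1 := fun e => (Fact.out : p.Prime).ne_one (by
    rw [← hx, ← Subgroup.orderOf_coe x, e, orderOf_one])
  refine ⟨P, le_of_inf_ne_bot hse P.isPGroup' fun h => hx1 ?_, fun h => hx1 ?_⟩
  · have : (x : G) ∈ (P : Subgroup G) ⊓ H := ⟨hP (Subgroup.mem_zpowers _), x.2⟩
    rwa [h, Subgroup.mem_bot] at this
  · have := hP (Subgroup.mem_zpowers (x : G))
    rwa [h, Subgroup.mem_bot] at this

end StronglyEmbedded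

end CfsgLib.SylowGraph
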